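import Mathlib.GroupTheory.Sylow
import Mathlib.GroupTheory.Nilpotent
import Mathlib.GroupTheory.QuotientGroup.Basic
import Mathlib.Data.Set.Card
import Mathlib.Data.Nat.Totient
import Mathlib.FieldTheory.Finite.Basic

/-!
The odd graph on involutions: `a` and `b` are joined when `a * b` has odd order.
Every component meets every Sylow 2-subgroup.
-/

set_option autoImplicit false

namespace Cfsg.Agent.OddGraph

universe u

variable {G : Type u} [Group G]

/-- Two involutions whose product has odd order. -/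
def Adj (a b : G) : Prop := orderOf a = 2 ∧ orderOf b = 2 ∧ Odd (orderOf (a * b))

/-- Being in the same component of the odd graph. -/
abbrev Reach (a b : G) : Prop := Relation.ReflTransGen Adj a b

theorem mul_self_eq_one {a : G} (ha : orderOf a = 2) : a * a = 1 := by
  rw [← pow_two, ← ha]; exact pow_orderOf_eq_one a

theorem inv_eq {a : G} (ha : orderOf a = 2) : a⁻¹ = a := inv_eq_of_mul_eq_one_right (mul_self_eq_one ha)

theorem orderOf_conj (g a : G) : orderOf (g * a * g⁻¹) = orderOf a :=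
  orderOf_injective (MulAut.conj g).toMonoidHom (MulAut.conj g).injective a

theorem Adj.symm {a b : G} (h : Adj a b) : Adj b a := by
  refine ⟨h.2.1, h.1, ?_⟩
  have h' : b * a = b * (a * b) * b⁻¹ := by group
  rw [h', orderOf_conj]; exact h.2.2

theorem Reach.symm {a b : G} (h : Reach a b) : Reach b a := by
  induction h with
  | refl => exact Relation.ReflTransGen.refl
  | tail _ hbc ih => exact Relation.ReflTransGen.head (Adj.symm hbc) ih

theorem Reach.map {H : Type*} [Group H] (f : G →* H) (hf : Function.Injective f) {a b : G}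
    (h : Reach a b) : Reach (f a) (f b) := by
  induction h with
  | refl => exact Relation.ReflTransGen.refl
  | tail _ hxy ih =>
    exact ih.tail ⟨by rw [orderOf_injective f hf]; exact hxy.1,
      by rw [orderOf_injective f hf]; exact hxy.2.1,
      by rw [← map_mul, orderOf_injective f hf]; exact hxy.2.2⟩

theorem Reach.conj {a b : G} (h : Reach a b) (g : G) : Reach (g * a * g⁻¹) (g * b * g⁻¹) :=
  h.map (MulAut.conj g).toMonoidHom (MulAut.conj g).injective

/-- Adjacent involutions are conjugate. -/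
theorem Adj.exists_conj {a b : G} (h : Adj a b) : ∃ g : G, g * a * g⁻¹ = b := by
  obtain ⟨k, hk⟩ := h.2.2
  refine ⟨(a * b) ^ k, ?_⟩
  have hinv : a * (a * b) * a⁻¹ = (a * b)⁻¹ := by
    rw [mul_inv_rev, inv_eq h.1, inv_eq h.2.1, ← mul_assoc, mul_self_eq_one h.1, one_mul]
  have h1 : a * ((a * b) ^ k)⁻¹ * a⁻¹ = (a * b) ^ k := by
    have e : MulAut.conj a (((a * b) ^ k)⁻¹) = (a * b) ^ k := by
      rw [map_inv, map_pow, MulAut.conj_apply, hinv, inv_pow, inv_inv]
    simpa using e
  have h2 : (a * b) ^ (k + k) = (a * b)⁻¹ := by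
    rw [eq_inv_iff_mul_eq_one, ← pow_succ, show k + k + 1 = orderOf (a * b) by omega, pow_orderOf_eq_one]
  calc (a * b) ^ k * a * ((a * b) ^ k)⁻¹
      = (a * b) ^ k * (a * ((a * b) ^ k)⁻¹ * a⁻¹) * a := by group
    _ = b := by rw [h1, ← pow_add, h2, mul_inv_rev, inv_eq h.1, inv_eq h.2.1, mul_assoc,
      mul_self_eq_one h.1, mul_one]

theorem Reach.exists_conj {a b : G} (h : Reach a b) : ∃ g : G, g * a * g⁻¹ = b := by
  induction h with
  | refl => exact ⟨1, by group⟩
  | tail _ hab ih =>
    obtain ⟨g, rfl⟩ := ih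
    obtain ⟨k, hk⟩ := hab.exists_conj
    exact ⟨k * g, by rw [← hk]; group⟩

theorem Reach.orderOf_eq {a b : G} (h : Reach a b) : orderOf b = orderOf a := by
  obtain ⟨g, rfl⟩ := h.exists_conj
  exact orderOf_conj g a

section Lift

variable {H : Type*} [Group H] (f : G →* H)

/-- Edges lift through a quotient by a 2-group. -/
theorem lift_adj (hf : Function.Surjective f) (hker : IsPGroup 2 f.ker) {a : G} {b' : H}
    (ha : orderOf a = 2) (h : Adj (f a) b') : ∃ b : G, Adj a b ∧ f b = b' := by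
  obtain ⟨g', hg'⟩ := h.exists_conj
  obtain ⟨g, rfl⟩ := hf g'
  set y := g * a * g⁻¹ with hy
  have hyo : orderOf y = 2 := by rw [hy, orderOf_conj, ha]
  have hfy : f y = b' := by rw [hy, map_mul, map_mul, map_inv, hg']
  set k := orderOf (f (a * y)) with hk
  have hkodd : Odd k := by rw [hk, map_mul, hfy]; exact h.2.2
  obtain ⟨i, hi⟩ := hker ⟨(a * y) ^ k, by rw [MonoidHom.mem_ker, map_pow, hk, pow_orderOf_eq_one]⟩
  have hi' : ((a * y) ^ k) ^ 2 ^ i = 1 := congrArg Subtype.val hi
  set c := (2 ^ i) ^ Nat.totient k with hc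
  have hkpos : 0 < k := hkodd.pos
  have hcmod : c ≡ 1 [MOD k] :=
    Nat.ModEq.pow_totient (Nat.Coprime.pow_left i (Nat.coprime_two_left.mpr hkodd))
  obtain ⟨c', hc'⟩ : 2 ^ i ∣ c := dvd_pow_self _ (Nat.totient_pos.2 hkpos).ne'
  set v := (a * y) ^ c with hv
  have hvk : v ^ k = 1 := by
    rw [hv, ← pow_mul, hc', show 2 ^ i * c' * k = k * 2 ^ i * c' by ring, pow_mul, pow_mul, hi',
      one_pow]
  have hvodd : Odd (orderOf v) := hkodd.of_dvd_nat (orderOf_dvd_of_pow_eq_one hvk)
  have hav : a * v * a⁻¹ = v⁻¹ := by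
    have hinv : a * (a * y) * a⁻¹ = (a * y)⁻¹ := by
      rw [mul_inv_rev, inv_eq ha, inv_eq hyo, ← mul_assoc, mul_self_eq_one ha, one_mul]
    rw [hv, ← MulAut.conj_apply, map_pow, MulAut.conj_apply, hinv, inv_pow]
  have hfv : f v = f (a * y) := by
    rw [hv, map_pow]
    conv_rhs => rw [← pow_one (f (a * y))]
    exact pow_eq_pow_iff_modEq.2 hcmod
  refine ⟨a * v, ⟨ha, ?_, ?_⟩, ?_⟩
  · refine orderOf_eq_prime ?_ ?_
    · rw [pow_two]
      calc a * v * (a * v) = (a * v * a⁻¹) * (a * a) * v := by group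
        _ = 1 := by rw [hav, mul_self_eq_one ha, mul_one, inv_mul_cancel]
    · intro hav1
      have hva : v = a := by rw [eq_inv_of_mul_eq_one_right hav1, inv_eq ha]
      rw [hva, ha] at hvodd
      exact absurd hvodd (by decide)
  · rw [← mul_assoc, mul_self_eq_one ha, one_mul]; exact hvodd
  · rw [map_mul, hfv, map_mul, ← mul_assoc, mul_self_eq_one h.1, one_mul, hfy]

theorem lift_reach (hf : Function.Surjective f) (hker : IsPGroup 2 f.ker) {a : G} {b' : H}
    (ha : orderOf a = 2) (h : Reach (f a) b') : ∃ b : G, Reach a b ∧ f b = b' := by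
  induction h with
  | refl => exact ⟨a, Relation.ReflTransGen.refl, rfl⟩
  | tail _ hbc ih =>
    obtain ⟨b, hab, rfl⟩ := ih
    obtain ⟨c, hc, hfc⟩ := lift_adj f hf hker (hab.orderOf_eq.trans ha) hbc
    exact ⟨c, hab.tail hc, hfc⟩

end Lift

end Cfsg.Agent.OddGraph
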