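import Cfsg.Agent.Lib.OddGraph.Basic

/-!
Every component of the odd graph on involutions meets every Sylow 2-subgroup.
-/

set_option autoImplicit false

namespace Cfsg.Agent.OddGraph

universe u

/-- The statement "every component meets every Sylow 2-subgroup". -/
def Meets (G : Type u) [Group G] : Prop :=
  ∀ (S : Sylow 2 G) (x : G), orderOf x = 2 → ∃ y ∈ (S : Subgroup G), Reach x y

variable {G : Type u} [Group G] [Finite G]

theorem sylow_of_normal (N : Subgroup G) [N.Normal] (hN : IsPGroup 2 N) (S : Sylow 2 G) :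
    N ≤ (S : Subgroup G) := by
  have h : IsPGroup 2 ↥(N ⊔ (S : Subgroup G)) :=
    IsPGroup.to_sup_of_normal_left hN S.isPGroup'
  rw [← S.is_maximal' h le_sup_right]
  exact le_sup_left

theorem meets_of_normal (N : Subgroup G) [N.Normal] (hN : IsPGroup 2 N)
    (hq : Meets (G ⧸ N)) : Meets G := by
  haveI : Fact (Nat.Prime 2) := ⟨Nat.prime_two⟩
  intro S x hx
  by_cases hxN : x ∈ N
  · exact ⟨x, sylow_of_normal N hN S hxN, Relation.ReflTransGen.refl⟩
  set f := QuotientGroup.mk' N
  have hf : Function.Surjective f := QuotientGroup.mk'_surjective N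
  have hfx : orderOf (f x) = 2 := by
    refine orderOf_eq_prime ?_ ?_
    · rw [← map_pow, ← hx, pow_orderOf_eq_one, map_one]
    · exact fun h => hxN ((QuotientGroup.eq_one_iff x).1 h)
  obtain ⟨yb, hyb, hr⟩ := hq (S.mapSurjective hf) (f x) hfx
  have hker : IsPGroup 2 f.ker := by rw [QuotientGroup.ker_mk']; exact hN
  obtain ⟨y, hy, hfy⟩ := lift_reach f hf hker hx hr
  refine ⟨y, ?_, hy⟩
  have hyb' : yb ∈ ((S : Subgroup G)).map f := by
    simpa [Sylow.coe_mapSurjective] using hyb
  have : y ∈ ((S : Subgroup G).map f).comap f := by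
    rw [Subgroup.mem_comap, hfy]; exact hyb'
  rwa [Subgroup.comap_map_eq, QuotientGroup.ker_mk', sup_eq_left.2 (sylow_of_normal N hN S)] at this

omit [Finite G] in
/-- In a 2-group, a subgroup generated by its part of an invariant set is normalised by a further
element of that set, if there is one. -/
theorem exists_normalizing [Finite G] {X : Set G} (hXinv : ∀ x ∈ X, ∀ g : G, g * x * g⁻¹ ∈ X)
    {P : Subgroup G} (hP : IsPGroup 2 P) {E : Set G} (hEX : E ⊆ X) (hEP : E ⊆ (P : Set G))
    (hout : ∃ a ∈ X, a ∈ P ∧ a ∉ Subgroup.closure E) :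
    ∃ a ∈ X, a ∈ P ∧ a ∉ Subgroup.closure E ∧
      a ∈ Subgroup.normalizer ((Subgroup.closure E : Subgroup G) : Set G) := by
  haveI : Fact (Nat.Prime 2) := ⟨Nat.prime_two⟩
  set U := Subgroup.closure E with hU
  have hUP : U ≤ P := (Subgroup.closure_le P).2 hEP
  by_contra hno
  push Not at hno
  obtain ⟨a, haX, haP, haU⟩ := hout
  set V : Subgroup P := (Subgroup.normalizer (U : Set G)).subgroupOf P with hV
  have hne : V ≠ ⊤ := fun h => hno a haX haP haU (by
    have := (Subgroup.subgroupOf_eq_top.1 h) haP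
    exact this)
  haveI := hP.isNilpotent
  obtain ⟨g, hg, hgV⟩ :=
    SetLike.exists_of_lt (Group.normalizerCondition_of_isNilpotent V (lt_top_iff_ne_top.mpr hne))
  apply hgV
  have hle : U.map (MulAut.conj (g : G)).toMonoidHom ≤ U := by
    rw [Subgroup.map_le_iff_le_comap, hU, Subgroup.closure_le]
    intro d hd
    show MulAut.conj (g : G) d ∈ U
    rw [MulAut.conj_apply]
    by_contra hdU
    have hdP : d ∈ P := hEP hd
    have hgdP : (g : G) * d * (g : G)⁻¹ ∈ P := mul_mem (mul_mem g.2 hdP) (inv_mem g.2)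
    refine hno _ (hXinv d (hEX hd) g) hgdP hdU ?_
    have hdV : (⟨d, hdP⟩ : P) ∈ V := Subgroup.le_normalizer (Subgroup.subset_closure hd)
    exact (Subgroup.mem_normalizer_iff.1 hg ⟨d, hdP⟩).1 hdV
  show (g : G) ∈ Subgroup.normalizer (U : Set G)
  exact Subgroup.mem_normalizer_fintype fun w hw => hle ⟨w, hw, rfl⟩

/-- The elements joined to an element of `T`. -/
def reached (X T : Set G) : Set G := {z | z ∈ X ∧ ∃ y ∈ T, Reach z y}

omit [Finite G] in
theorem reach_class {x z y : G} (hz : IsConj x z) (h : Reach z y) : IsConj x y := by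
  obtain ⟨g, hg⟩ := h.exists_conj
  exact hz.trans (isConj_iff.2 ⟨g, hg⟩)

omit [Finite G] in
theorem reach_reached {X T : Set G} {z w : G} (hw : w ∈ reached X T) (hz : z ∈ X) (h : Reach z w) :
    z ∈ reached X T := by
  obtain ⟨-, y, hy, hwy⟩ := hw
  exact ⟨hz, y, hy, h.trans hwy⟩

theorem meets_of_no_core (ih : ∀ M : Subgroup G, M ≠ ⊤ → Meets M)
    (hcore : ∀ N : Subgroup G, N.Normal → IsPGroup 2 N → N = ⊥) : Meets G := by
  classical
  haveI : Fact (Nat.Prime 2) := ⟨Nat.prime_two⟩
  intro S₀ x hx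
  set X : Set G := {g | IsConj x g} with hX
  have hXinv : ∀ z ∈ X, ∀ g : G, g * z * g⁻¹ ∈ X := fun z hz g =>
    IsConj.trans hz (isConj_iff.2 ⟨g, rfl⟩)
  have hXord : ∀ z ∈ X, orderOf z = 2 := fun z hz => by
    obtain ⟨g, rfl⟩ := isConj_iff.1 hz
    rw [orderOf_conj, hx]
  suffices h : ∀ S R : Sylow 2 G, reached X (S : Set G) = reached X (R : Set G) by
    have hxp : IsPGroup 2 (Subgroup.zpowers x) :=
      IsPGroup.of_card (n := 1) (by rw [Nat.card_zpowers, hx, pow_one])
    obtain ⟨R, hR⟩ := hxp.exists_le_sylow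
    have hxR : x ∈ reached X (R : Set G) :=
      ⟨IsConj.refl x, x, hR (Subgroup.mem_zpowers x), Relation.ReflTransGen.refl⟩
    rw [← h S₀ R] at hxR
    exact hxR.2
  by_contra hbad
  push Not at hbad
  obtain ⟨S₁, R₁, h₁⟩ := hbad
  obtain ⟨⟨S, R⟩, hSR, hmax⟩ := Set.exists_max_image
    {q : Sylow 2 G × Sylow 2 G | reached X (q.1 : Set G) ≠ reached X (q.2 : Set G)}
    (fun q => (X ∩ (q.1 : Set G) ∩ (q.2 : Set G)).ncard) (Set.toFinite _) ⟨(S₁, R₁), h₁⟩
  simp only [Set.mem_setOf_eq, Prod.forall] at hSR hmax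
  set D : Set G := X ∩ (S : Set G) ∩ (R : Set G) with hD
  set U := Subgroup.closure D with hU
  have hUS : U ≤ (S : Subgroup G) := (Subgroup.closure_le _).2 fun d hd => hd.1.2
  have hUR : U ≤ (R : Subgroup G) := (Subgroup.closure_le _).2 fun d hd => hd.2
  -- both Sylow subgroups have further elements of the class
  have hcard : (X ∩ (S : Set G)).ncard = (X ∩ (R : Set G)).ncard := by
    have key : ∀ S R : Sylow 2 G, (X ∩ (S : Set G)).ncard ≤ (X ∩ (R : Set G)).ncard := by
      intro S R
      obtain ⟨g, rfl⟩ := MulAction.exists_smul_eq G S R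
      refine Set.ncard_le_ncard_of_injOn (fun z => g * z * g⁻¹) (fun z hz => ⟨hXinv z hz.1 g, ?_⟩)
        (fun z _ w _ h => by simpa using h) (Set.toFinite _)
      show g * z * g⁻¹ ∈ ((g • S : Sylow 2 G) : Subgroup G)
      rw [Sylow.coe_subgroup_smul, Subgroup.mem_pointwise_smul_iff_inv_smul_mem]
      rw [MulAut.smul_def, show (MulAut.conj g)⁻¹ (g * z * g⁻¹) = z by simp [mul_assoc]]
      exact hz.2
    exact le_antisymm (key S R) (key R S)
  have houtS : ∃ a ∈ X, a ∈ (S : Subgroup G) ∧ a ∉ U := by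
    by_contra hno
    push Not at hno
    have hsub : X ∩ (S : Set G) ⊆ X ∩ (R : Set G) := fun a ha => ⟨ha.1, hUR (hno a ha.1 ha.2)⟩
    have he := Set.eq_of_subset_of_ncard_le hsub hcard.ge (Set.toFinite _)
    apply hSR
    ext z
    constructor
    all_goals rintro ⟨hz, y, hy, hzy⟩
    · exact ⟨hz, y, (hsub ⟨reach_class hz hzy, hy⟩).2, hzy⟩
    · exact ⟨hz, y, (he.symm.subset ⟨reach_class hz hzy, hy⟩).2, hzy⟩
  have houtR : ∃ a ∈ X, a ∈ (R : Subgroup G) ∧ a ∉ U := by
    by_contra hno
    push Not at hno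
    have hsub : X ∩ (R : Set G) ⊆ X ∩ (S : Set G) := fun a ha => ⟨ha.1, hUS (hno a ha.1 ha.2)⟩
    have he := Set.eq_of_subset_of_ncard_le hsub hcard.le (Set.toFinite _)
    apply hSR
    ext z
    constructor
    all_goals rintro ⟨hz, y, hy, hzy⟩
    · exact ⟨hz, y, (he.symm.subset ⟨reach_class hz hzy, hy⟩).2, hzy⟩
    · exact ⟨hz, y, (hsub ⟨reach_class hz hzy, hy⟩).2, hzy⟩
  obtain ⟨a, haX, haS, haU, haN⟩ :=
    exists_normalizing hXinv S.isPGroup' (fun d hd => hd.1.1) (fun d hd => hd.1.2) houtS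
  obtain ⟨b, hbX, hbR, hbU, hbN⟩ :=
    exists_normalizing hXinv R.isPGroup' (fun d hd => hd.1.1) (fun d hd => hd.2) houtR
  by_cases htop : U ⊔ Subgroup.closure {a, b} = ⊤
  · -- the group is generated by the two involutions
    have hUn : U.Normal := by
      rw [← Subgroup.normalizer_eq_top_iff, eq_top_iff, ← htop]
      refine sup_le Subgroup.le_normalizer ((Subgroup.closure_le _).2 ?_)
      rintro z (rfl | rfl)
      exacts [haN, hbN]
    have hU0 : U = ⊥ := hcore U hUn (S.isPGroup'.to_le hUS)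
    rw [hU0, bot_sup_eq] at htop
    set w := a * b with hw
    rcases Nat.even_or_odd (orderOf w) with hev | hodd
    · obtain ⟨m, hm⟩ := hev
      have hwpos : 0 < orderOf w := orderOf_pos w
      set c := w ^ m with hc
      have hc2 : c * c = 1 := by rw [hc, ← pow_add, ← hm, pow_orderOf_eq_one]
      have hc1 : c ≠ 1 := by
        intro h
        have := Nat.le_of_dvd (by omega) (orderOf_dvd_of_pow_eq_one h)
        omega
      have hao := hXord a haX
      have hbo := hXord b hbX
      have hinv : a * w * a⁻¹ = w⁻¹ := by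
        rw [hw, mul_inv_rev, inv_eq hao, inv_eq hbo, ← mul_assoc, mul_self_eq_one hao, one_mul]
      have hca : a * c * a⁻¹ = c := by
        rw [hc, ← MulAut.conj_apply, map_pow, MulAut.conj_apply, hinv, inv_pow, ← hc,
          inv_eq_of_mul_eq_one_right hc2]
      have hcent : c ∈ Subgroup.center G := by
        rw [← Subgroup.centralizer_univ, ← Subgroup.coe_top, ← htop, Subgroup.centralizer_closure,
          Subgroup.mem_centralizer_iff]
        rintro z (rfl | rfl)
        · exact eq_mul_of_mul_inv_eq (by simpa using hca)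
        · have hbw : z = a⁻¹ * w := by rw [hw, inv_mul_cancel_left]
          have hac : a⁻¹ * c = c * a⁻¹ := by
            rw [inv_eq hao]; exact eq_mul_of_mul_inv_eq (by simpa using hca)
          have hwc : w * c = c * w := (Commute.self_pow w m).eq
          rw [hbw, mul_assoc, hwc, ← mul_assoc, hac, mul_assoc]
      have hZ : (Subgroup.zpowers c).Normal := by
        refine ⟨fun z hz g => ?_⟩
        have hzc : z ∈ Subgroup.center G := (Subgroup.zpowers_le.2 hcent) hz
        rwa [Subgroup.mem_center_iff.1 hzc g, mul_inv_cancel_right]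
      have hco : orderOf c = 2 := orderOf_eq_prime (by rw [pow_two]; exact hc2) hc1
      have := hcore _ hZ (IsPGroup.of_card (n := 1) (by rw [Nat.card_zpowers, hco, pow_one]))
      exact hc1 (Subgroup.zpowers_eq_bot.1 this)
    · have hab : Reach a b := Relation.ReflTransGen.single ⟨hXord a haX, hXord b hbX, hodd⟩
      have hall : ∀ g : G, Reach a (g * a * g⁻¹) := by
        intro g
        have hg : g ∈ Subgroup.closure ({a, b} : Set G) := htop ▸ Subgroup.mem_top g
        induction hg using Subgroup.closure_induction with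
        | mem z hz =>
          rcases hz with rfl | rfl
          · rw [mul_inv_cancel_right]
          · have h := hab.conj z
            rw [mul_inv_cancel_right] at h
            exact hab.trans h.symm
        | one => simp; rfl
        | mul g h _ _ hg hh =>
          have h2 := hh.conj g
          rw [show g * h * a * (g * h)⁻¹ = g * (h * a * h⁻¹) * g⁻¹ by group]
          exact hg.trans h2
        | inv g _ hg =>
          have h2 := hg.conj g⁻¹
          rw [show g⁻¹ * (g * a * g⁻¹) * g⁻¹⁻¹ = a by group] at h2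
          exact h2.symm
      have hreach : ∀ z ∈ X, Reach z a := by
        intro z hz
        obtain ⟨g, hg⟩ := isConj_iff.1 ((IsConj.symm haX).trans hz)
        rw [← hg]
        exact (hall g).symm
      apply hSR
      ext z
      exact ⟨fun hz => ⟨hz.1, b, hbR, (hreach z hz.1).trans hab⟩,
        fun hz => ⟨hz.1, a, haS, hreach z hz.1⟩⟩
  obtain ⟨M, hM, hleM⟩ := (eq_top_or_exists_le_coatom _).resolve_left htop
  have haM : a ∈ M := hleM (Subgroup.mem_sup_right (Subgroup.subset_closure (by simp)))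
  have hbM : b ∈ M := hleM (Subgroup.mem_sup_right (Subgroup.subset_closure (by simp)))
  have hUM : U ≤ M := le_sup_left.trans hleM
  set F : Set G := reached X (M : Set G) with hF
  -- the reached set of a Sylow subgroup extending a Sylow subgroup of M is F
  have key : ∀ (P : Sylow 2 G) (d : G), d ∈ X → d ∈ (P : Subgroup G) → d ∉ U → d ∈ M →
      U ≤ (P : Subgroup G) →
      ∃ T : Sylow 2 G, (D.ncard < (X ∩ (P : Set G) ∩ (T : Set G)).ncard) ∧
        reached X (T : Set G) = F := by
    intro P d hdX hdP hdU hdM hUP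
    have hW : IsPGroup 2 ↥(((U ⊔ Subgroup.zpowers d) : Subgroup G).subgroupOf M) := by
      have h1 : IsPGroup 2 ↥(U ⊔ Subgroup.zpowers d) :=
        P.isPGroup'.to_le (sup_le hUP (Subgroup.zpowers_le.2 hdP))
      exact h1.of_equiv (Subgroup.subgroupOfEquivOfLe (sup_le hUM (Subgroup.zpowers_le.2 hdM))).symm
    obtain ⟨TM, hTM⟩ := hW.exists_le_sylow
    obtain ⟨T, hT⟩ := (TM.isPGroup'.map M.subtype).exists_le_sylow
    have hWT : ∀ z ∈ U ⊔ Subgroup.zpowers d, z ∈ (T : Subgroup G) := fun z hz =>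
      hT ⟨⟨z, sup_le hUM (Subgroup.zpowers_le.2 hdM) hz⟩, hTM hz, rfl⟩
    refine ⟨T, ?_, ?_⟩
    · have hsub : insert d D ⊆ X ∩ (P : Set G) ∩ (T : Set G) := by
        rintro z (rfl | hz)
        · exact ⟨⟨hdX, hdP⟩, hWT _ (Subgroup.mem_sup_right (Subgroup.mem_zpowers _))⟩
        · exact ⟨⟨hz.1.1, hUP (Subgroup.subset_closure hz)⟩,
            hWT _ (Subgroup.mem_sup_left (Subgroup.subset_closure hz))⟩
      have hdD : d ∉ D := fun h => hdU (Subgroup.subset_closure h)
      have := Set.ncard_le_ncard hsub (Set.toFinite _)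
      rw [Set.ncard_insert_of_notMem hdD (Set.toFinite _)] at this
      omega
    -- `F` is contained in the reached set
    have hdown : ∀ y ∈ M, y ∈ X → ∃ t ∈ (T : Subgroup G), t ∈ M ∧ Reach y t := by
      intro y hyM hyX
      have hyo : orderOf (⟨y, hyM⟩ : M) = 2 := by
        rw [← orderOf_injective M.subtype M.subtype_injective]; exact hXord y hyX
      obtain ⟨t, ht, hyt⟩ := ih M hM.1 TM ⟨y, hyM⟩ hyo
      exact ⟨t, hT ⟨t, ht, rfl⟩, t.2, hyt.map M.subtype M.subtype_injective⟩
    have hFT : F ⊆ reached X (T : Set G) := by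
      rintro z ⟨hz, y, hy, hzy⟩
      obtain ⟨t, htT, -, hyt⟩ := hdown y hy (reach_class hz hzy)
      exact ⟨hz, t, htT, hzy.trans hyt⟩
    refine (hFT.antisymm ?_).symm
    rintro z ⟨hz, y, hy, hzy⟩
    set E : Set G := X ∩ (T : Set G) ∩ (M : Set G) with hE
    by_cases hin : ∀ v ∈ X, v ∈ (T : Subgroup G) → v ∈ M
    · exact ⟨hz, y, hin y (reach_class hz hzy) hy, hzy⟩
    push Not at hin
    obtain ⟨v, hvX, hvT, hvM⟩ := hin
    have hEM : Subgroup.closure E ≤ M := (Subgroup.closure_le M).2 fun e he => he.2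
    obtain ⟨c, hcX, hcT, hcE, hcN⟩ := exists_normalizing hXinv T.isPGroup'
      (E := E) (fun e he => he.1.1) (fun e he => he.1.2) ⟨v, hvX, hvT, fun h => hvM (hEM h)⟩
    have hcM : c ∉ M := fun h => hcE (Subgroup.subset_closure ⟨⟨hcX, hcT⟩, h⟩)
    let K : Subgroup G :=
      { carrier := {g | ∀ w, w ∈ F ↔ g * w * g⁻¹ ∈ F}
        one_mem' := fun w => by simp
        mul_mem' := fun {g h} hg hh w => by
          rw [hh w, hg]
          rw [show g * (h * w * h⁻¹) * g⁻¹ = g * h * w * (g * h)⁻¹ by group]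
        inv_mem' := fun {g} hg w => by
          rw [hg (g⁻¹ * w * g⁻¹⁻¹), show g * (g⁻¹ * w * g⁻¹⁻¹) * g⁻¹ = w by group] }
    have hMK : M ≤ K := by
      have hfwd : ∀ g ∈ M, ∀ w ∈ F, g * w * g⁻¹ ∈ F := by
        rintro g hg w ⟨hw, u, hu, hwu⟩
        exact ⟨hXinv w hw g, _, mul_mem (mul_mem hg hu) (inv_mem hg), hwu.conj g⟩
      intro g hg w
      refine ⟨hfwd g hg w, fun h => ?_⟩
      have := hfwd g⁻¹ (inv_mem hg) _ h
      rwa [show g⁻¹ * (g * w * g⁻¹) * g⁻¹⁻¹ = w by group] at this
    have hcK : c ∈ K := by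
      have hfwd : ∀ w ∈ F, c * w * c⁻¹ ∈ F := by
        rintro w ⟨hw, u, hu, hwu⟩
        obtain ⟨t, htT, htM, hut⟩ := hdown u hu (reach_class hw hwu)
        have htE : t ∈ Subgroup.closure E :=
          Subgroup.subset_closure ⟨⟨reach_class (reach_class hw hwu) hut, htT⟩, htM⟩
        exact ⟨hXinv w hw c, _, hEM ((Subgroup.mem_normalizer_iff.1 hcN t).1 htE),
          Reach.conj (hwu.trans hut) c⟩
      intro w
      refine ⟨hfwd w, fun h => ?_⟩
      have := hfwd _ h
      have hcc := mul_self_eq_one (hXord c hcX)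
      rwa [show c * (c * w * c⁻¹) * c⁻¹ = (c * c) * w * (c * c)⁻¹ by group, hcc, one_mul,
        inv_one, mul_one] at this
    have hKtop : K = ⊤ := hM.2 K (lt_of_le_of_ne hMK fun h => hcM (h ▸ hcK))
    have hdF : d ∈ F := ⟨hdX, d, hdM, Relation.ReflTransGen.refl⟩
    obtain ⟨g, hg⟩ := isConj_iff.1 ((IsConj.symm hdX).trans hz)
    rw [← hg]
    exact ((hKtop ▸ Subgroup.mem_top g : g ∈ K) d).1 hdF
  obtain ⟨T₁, hT₁, hFT₁⟩ := key S a haX haS haU haM hUS
  obtain ⟨T₂, hT₂, hFT₂⟩ := key R b hbX hbR hbU hbM hUR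
  have e₁ : reached X (S : Set G) = reached X (T₁ : Set G) := by
    by_contra h
    exact absurd (hmax S T₁ h) (by omega)
  have e₂ : reached X (R : Set G) = reached X (T₂ : Set G) := by
    by_contra h
    exact absurd (hmax R T₂ h) (by omega)
  exact hSR (e₁.trans (hFT₁.trans (hFT₂.symm.trans e₂.symm)))

/-- Every component of the odd graph meets every Sylow 2-subgroup. -/
theorem meets (G : Type u) [Group G] [Finite G] : Meets G := by
  suffices h : ∀ n, ∀ (G : Type u) [Group G] [Finite G], Nat.card G = n → Meets G from h _ G rfl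
  intro n
  induction n using Nat.strong_induction_on with
  | _ n ih =>
    intro G _ _ hn
    by_cases hcore : ∀ N : Subgroup G, N.Normal → IsPGroup 2 N → N = ⊥
    · refine meets_of_no_core (fun M hM => ih _ ?_ M rfl) hcore
      rw [← hn]
      exact lt_of_le_of_ne (Nat.le_of_dvd Nat.card_pos M.card_subgroup_dvd_card)
        (fun h => hM (Subgroup.eq_top_of_card_eq _ h))
    · push Not at hcore
      obtain ⟨N, hN, hN2, hN1⟩ := hcore
      haveI := hN
      refine meets_of_normal N hN2 (ih _ ?_ (G ⧸ N) rfl)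
      have hlt : 1 < Nat.card N := (Subgroup.one_lt_card_iff_ne_bot N).2 hN1
      rw [← hn, Subgroup.card_eq_card_quotient_mul_card_subgroup N]
      exact lt_mul_of_one_lt_right Nat.card_pos hlt

end Cfsg.Agent.OddGraph
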